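import Cfsg.Agent.Glauberman.Constituent
import Cfsg.Agent.CharactersDeep.ExtensionCriteria

/-!
# Fully ramified sections under a cyclic Frobenius action

If `θ` is fully ramified in `G`, invariant in `Γ`, and `Γ ⧸ N` is Frobenius with cyclic complement
of order `q`, then `q` divides `e - 1` or `e + 1`.
-/

set_option autoImplicit false
set_option linter.style.haveILetI false
set_option linter.unusedSectionVars false

namespace CfsgLib.FullyRamified

open Cfsg CfsgLib.Characters CfsgLib.OddOrderChar CfsgLib.CharactersDeep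
open scoped ComplexConjugate

/-- The arithmetic: `q` parts summing to `e` with `q ∑ aᵢ² = e² + q - 1`. -/
theorem dvd_sub_or_add {ι : Type*} [Fintype ι] (a : ι → ℕ) {q e : ℕ} (hq : 1 < q)
    (hι : Fintype.card ι = q) (hsum : ∑ i, a i = e)
    (hsq : q * ∑ i, a i * a i + 1 = e * e + q) :
    (q : ℤ) ∣ (e : ℤ) - 1 ∨ (q : ℤ) ∣ (e : ℤ) + 1 := by
  set t : ℤ := (e : ℤ) / q with ht
  set r : ℤ := (e : ℤ) % q with hr
  have he : (e : ℤ) = q * t + r := (Int.mul_ediv_add_emod _ _).symm
  have hr0 : 0 ≤ r := Int.emod_nonneg _ (by omega)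
  have hrq : r < q := Int.emod_lt_of_pos _ (by omega)
  have hsum' : ∑ i, (a i : ℤ) = e := by exact_mod_cast hsum
  have hsq' : (q : ℤ) * ∑ i, (a i : ℤ) * a i + 1 = e * e + q := by exact_mod_cast hsq
  have hb : ∑ i, ((a i : ℤ) - t) = r := by
    rw [Finset.sum_sub_distrib, hsum', Finset.sum_const, Finset.card_univ, hι, nsmul_eq_mul]
    linarith
  have hb2 : ∑ i, ((a i : ℤ) - t) * ((a i : ℤ) - t) =
      ∑ i, (a i : ℤ) * a i - 2 * t * e + q * (t * t) := by
    have hexp : ∀ i, ((a i : ℤ) - t) * ((a i : ℤ) - t) = (a i : ℤ) * a i - 2 * t * a i + t * t :=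
      fun i => by ring
    rw [Finset.sum_congr rfl fun i _ => hexp i, Finset.sum_add_distrib, Finset.sum_sub_distrib,
      ← Finset.mul_sum, hsum', Finset.sum_const, Finset.card_univ, hι, nsmul_eq_mul]
  have hle : r ≤ ∑ i, ((a i : ℤ) - t) * ((a i : ℤ) - t) :=
    hb ▸ Finset.sum_le_sum fun i _ => by
      rcases le_or_gt ((a i : ℤ) - t) 0 with h | h
      · nlinarith
      · nlinarith
  set S := ∑ i, ((a i : ℤ) - t) * ((a i : ℤ) - t) with hS
  have hkey : (q : ℤ) * S = r * r + q - 1 := by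
    rw [hb2]; linear_combination hsq' + (e - (q : ℤ) * t + r) * he
  have hprod : 0 ≤ (r - 1) * (r - ((q : ℤ) - 1)) := by nlinarith
  rcases lt_trichotomy r 1 with h | h | h
  · exfalso
    have hr00 : r = 0 := by omega
    rw [hr00] at hkey
    rcases le_or_gt S 0 with h' | h' <;> nlinarith
  · exact Or.inl ⟨t, by rw [he, h]; ring⟩
  · refine Or.inr ⟨t + 1, ?_⟩
    have : r = (q : ℤ) - 1 := by nlinarith
    rw [he, this]; ring

variable {Γ : Type*} [Group Γ] [Fintype Γ] (G N : Subgroup Γ) [hG : G.Normal] [hN : N.Normal]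
  [Fintype G] [Fintype N]

/-- Twisted conjugation covers the coset `G y` evenly when `y` acts without fixed points on
`G ⧸ N`. -/
theorem sum_coset_eq (hNG : N ≤ G) (y : Γ)
    (hy : ∀ g ∈ G, y * g * y⁻¹ * g⁻¹ ∈ N → g ∈ N) (F : Γ → ℂ)
    (hF : ∀ a b : Γ, F (a * b * a⁻¹) = F b) :
    ∑ g : G, F ((g : Γ) * y) = ((N.subgroupOf G).index : ℂ) * ∑ n : N, F ((n : Γ) * y) := by
  classical
  haveI := Fintype.ofFinite (G ⧸ N.subgroupOf G)
  let Φ : (G ⧸ N.subgroupOf G) × N → G := fun p =>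
    ⟨((p.1.out : G) : Γ) * (p.2 : Γ) * y * ((p.1.out : G) : Γ)⁻¹ * y⁻¹, by
      have h : y * ((p.1.out : G) : Γ)⁻¹ * y⁻¹ ∈ G := hG.conj_mem _ (G.inv_mem p.1.out.2) y
      simpa [mul_assoc] using G.mul_mem (G.mul_mem p.1.out.2 (hNG p.2.2)) h⟩
  have hinj : Function.Injective Φ := by
    rintro ⟨c, n⟩ ⟨c', n'⟩ h
    have h1 : ((c.out : G) : Γ) * n * y * ((c.out : G) : Γ)⁻¹ * y⁻¹ =
        ((c'.out : G) : Γ) * n' * y * ((c'.out : G) : Γ)⁻¹ * y⁻¹ := congrArg Subtype.val h
    obtain ⟨k, hk⟩ : ∃ k : Γ, ((c.out : G) : Γ) = k := ⟨_, rfl⟩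
    obtain ⟨k', hk'⟩ : ∃ k' : Γ, ((c'.out : G) : Γ) = k' := ⟨_, rfl⟩
    rw [hk, hk'] at h1
    have hkG : k'⁻¹ * k ∈ G := G.mul_mem (G.inv_mem (hk' ▸ c'.out.2)) (hk ▸ c.out.2)
    have h2 : y * (k'⁻¹ * k) * y⁻¹ = (n' : Γ)⁻¹ * ((k'⁻¹ * k) * n) := by
      have e : k * n * y * k⁻¹ = k' * n' * y * k'⁻¹ := mul_right_cancel h1
      calc y * (k'⁻¹ * k) * y⁻¹
          = (n' : Γ)⁻¹ * k'⁻¹ * (k' * n' * y * k'⁻¹) * k * y⁻¹ := by group
        _ = (n' : Γ)⁻¹ * k'⁻¹ * (k * n * y * k⁻¹) * k * y⁻¹ := by rw [e]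
        _ = (n' : Γ)⁻¹ * ((k'⁻¹ * k) * n) := by group
    have hmem : k'⁻¹ * k ∈ N := by
      refine hy _ hkG ?_
      rw [h2]
      have := hN.conj_mem (n : Γ) n.2 (k'⁻¹ * k)
      simpa [mul_assoc] using N.mul_mem (N.inv_mem n'.2) this
    have hc : c = c' := by
      rw [← QuotientGroup.out_eq' c, ← QuotientGroup.out_eq' c', eq_comm, QuotientGroup.eq]
      show ((c'.out : G) : Γ)⁻¹ * ((c.out : G) : Γ) ∈ N
      rwa [hk, hk']
    subst hc
    have hkk : k = k' := hk.symm.trans hk'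
    subst hkk
    have : (n : Γ) = n' := by
      have e : k * n * y * k⁻¹ = k * n' * y * k⁻¹ := mul_right_cancel h1
      simpa using mul_left_cancel (mul_right_cancel (mul_right_cancel e))
    rw [Subtype.ext this]
  have hbij : Function.Bijective Φ := by
    refine (Fintype.bijective_iff_injective_and_card Φ).2 ⟨hinj, ?_⟩
    rw [Fintype.card_prod, ← Nat.card_eq_fintype_card, ← Nat.card_eq_fintype_card,
      ← Nat.card_eq_fintype_card, Nat.card_congr (Subgroup.subgroupOfEquivOfLe hNG).toEquiv.symm,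
      ← Subgroup.card_eq_card_quotient_mul_card_subgroup]
  rw [← hbij.sum_comp (fun g : G => F ((g : Γ) * y)), Fintype.sum_prod_type]
  have hterm : ∀ (c : G ⧸ N.subgroupOf G) (n : N),
      F ((Φ (c, n) : Γ) * y) = F ((n : Γ) * y) := fun c n => by
    rw [← hF ((c.out : G) : Γ) ((n : Γ) * y)]
    exact congrArg F (by simp [Φ, mul_assoc])
  simp only [hterm, Finset.sum_const, Finset.card_univ, nsmul_eq_mul]
  rw [← Nat.card_eq_fintype_card, ← Subgroup.index_eq_card]

/-- The congruence. -/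
theorem index_dvd (hNG : N ≤ G) (hGlt : G ≠ ⊤) (hcyc : IsCyclic (Γ ⧸ G))
    (hfrob : ∀ x : Γ, x ∉ G → ∀ g : Γ, g ∈ G → x * g * x⁻¹ * g⁻¹ ∈ N → g ∈ N)
    (θ : IrrCharacter N)
    (hinv : ∀ (x : Γ) (n : N), (θ : N → ℂ) ⟨x * n * x⁻¹, hN.conj_mem n n.2 x⟩ = (θ : N → ℂ) n)
    (χ : IrrCharacter G) (e : ℕ)
    (hram : Cfsg.indFun (N.subgroupOf G) (fun n : N.subgroupOf G => (θ : N → ℂ) ⟨(n : G), n.2⟩) =
      fun g => (e : ℂ) * (χ : G → ℂ) g) :
    (G.index : ℤ) ∣ (e : ℤ) - 1 ∨ (G.index : ℤ) ∣ (e : ℤ) + 1 := by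
  classical
  set N' := N.subgroupOf G with hN'
  haveI : Fintype N' := Fintype.ofFinite _
  let eN : N' ≃* N := Subgroup.subgroupOfEquivOfLe hNG
  set θ' : IrrCharacter N' := Glauberman.irrCongr eN θ with hθ'
  have hθeq : (θ' : N' → ℂ) = fun n : N' => (θ : N → ℂ) ⟨(n : G), n.2⟩ := rfl
  have hθinv' : ∀ g : G, conjBy N' (θ' : N' → ℂ) g = θ' := fun g => funext fun n =>
    hinv g ⟨(n : G), n.2⟩
  rw [← hθeq] at hram
  change Cfsg.indFun N' (θ' : N' → ℂ) = _ at hram
  -- the ramification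
  set i : ℕ := N'.index with hi
  have hN0 : (Nat.card N' : ℂ) ≠ 0 := subgroup_card_ne_zero N'
  have hres : ∀ n : N', (e : ℂ) * (χ : G → ℂ) n = (i : ℂ) * (θ' : N' → ℂ) n := fun n => by
    have h := congrFun hram n
    rw [indFun_normal_apply] at h
    simp only [hθinv', Finset.sum_const, Finset.card_univ, nsmul_eq_mul,
      ← Nat.card_eq_fintype_card] at h
    rw [← h, ← Subgroup.index_mul_card N', Nat.cast_mul]
    field_simp
    rw [hi, mul_comm]
  have he0 : (e : ℂ) ≠ 0 := fun h => by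
    have := hres 1
    rw [h, zero_mul, eq_comm, mul_eq_zero] at this
    exact this.elim (Nat.cast_ne_zero.2 Subgroup.index_ne_zero_of_finite) (irr_one_ne_zero θ'.2)
  have hmult : Cfsg.classInner (fun n : N' => (χ : G → ℂ) n) (θ' : N' → ℂ) = (e : ℂ) := by
    rw [classInner_conj_symm, ← classInner_indFun N' _ (isClassFunction_of_isIrr χ.2), hram,
      show (fun g => (e : ℂ) * (χ : G → ℂ) g) = (e : ℂ) • (χ : G → ℂ) from rfl,
      classInner_smul_left, classInner_isIrr_self χ.2, mul_one, Complex.conj_natCast]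
  have hχN : (fun n : N' => (χ : G → ℂ) n) = ((i : ℂ) / e) • (θ' : N' → ℂ) := funext fun n => by
    rw [Pi.smul_apply, smul_eq_mul, div_mul_eq_mul_div, eq_div_iff he0, ← hres]
    ring
  have hie : (i : ℂ) = (e : ℂ) * e := by
    rw [hχN, classInner_smul_left, classInner_isIrr_self θ'.2, mul_one, div_eq_iff he0] at hmult
    exact hmult
  have hχN' : ∀ n : N', (χ : G → ℂ) n = (e : ℂ) * (θ' : N' → ℂ) n := fun n => by
    have := congrFun hχN n
    rwa [hie, mul_div_cancel_right₀ _ he0] at this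
  -- invariance of `χ`
  have hχinv : ∀ (x : Γ) (g : G),
      (χ : G → ℂ) ⟨x * g * x⁻¹, hG.conj_mem g g.2 x⟩ = (χ : G → ℂ) g := by
    intro x
    let c : G ≃* G := MulAut.conjNormal (H := G) x
    set ψ := Glauberman.irrCongr c χ with hψ
    have hψv : ∀ g : G, (ψ : G → ℂ) g = (χ : G → ℂ) ⟨x * g * x⁻¹, hG.conj_mem g g.2 x⟩ :=
      fun g => congrArg (χ : G → ℂ) (Subtype.ext (MulAut.conjNormal_apply x g))
    by_contra hne
    have hψne : (χ : G → ℂ) ≠ (ψ : G → ℂ) := fun h => hne fun g => by rw [← hψv, ← h]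
    have h0 : Cfsg.classInner (θ' : N' → ℂ) (fun n : N' => (ψ : G → ℂ) n) = 0 := by
      rw [← classInner_indFun N' _ (isClassFunction_of_isIrr ψ.2), hram,
        show (fun g => (e : ℂ) * (χ : G → ℂ) g) = (e : ℂ) • (χ : G → ℂ) from rfl,
        classInner_smul_left, classInner_isIrr_ne χ.2 ψ.2 hψne, mul_zero]
    have h1 : (fun n : N' => (ψ : G → ℂ) n) = (e : ℂ) • (θ' : N' → ℂ) := funext fun n => by
      rw [hψv]
      exact (hχN' ⟨⟨x * (n : G) * x⁻¹, hG.conj_mem _ (n : G).2 x⟩, hN.conj_mem _ n.2 x⟩).trans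
        (congrArg ((e : ℂ) * ·) (hinv x ⟨(n : G), n.2⟩))
    rw [h1, classInner_smul_right, classInner_isIrr_self θ'.2, mul_one, Complex.conj_natCast] at h0
    exact he0 h0
  -- extension
  obtain ⟨χh, hχh, hext⟩ := ExtensionCriteria.extends_of_cyclic G χ.2 hχinv hcyc
  have hχhN : ∀ n : N, χh n = (e : ℂ) * (θ : N → ℂ) n := fun n => by
    rw [show ((n : Γ)) = ((⟨(n : Γ), hNG n.2⟩ : G) : Γ) from rfl, hext]
    exact hχN' (eN.symm n)
  set q := G.index with hq
  have hq1 : 1 < q := by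
    have h0 : G.index ≠ 0 := Subgroup.index_ne_zero_of_finite
    have h1 : G.index ≠ 1 := fun h => hGlt (Subgroup.index_eq_one.1 h)
    omega
  obtain ⟨xb, hxb⟩ := hcyc.exists_generator
  obtain ⟨x, rfl⟩ := QuotientGroup.mk_surjective xb
  have hxG : x ∉ G := fun h => by
    refine hGlt (eq_top_iff.2 fun y _ => ?_)
    obtain ⟨j, hj⟩ := Subgroup.mem_zpowers_iff.1 (hxb (y : Γ ⧸ G))
    rw [(QuotientGroup.eq_one_iff x).2 h, one_zpow, eq_comm, QuotientGroup.eq_one_iff] at hj
    exact hj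
  have hpow : ∀ j : ℤ, x ^ j ∈ G → x ^ j ∈ N := fun j hj => by
    refine hfrob x hxG _ hj ?_
    rw [show x * x ^ j * x⁻¹ * (x ^ j)⁻¹ = 1 by
      rw [(Commute.zpow_right (Commute.refl x) j).eq]; group]
    exact N.one_mem
  set M := N ⊔ Subgroup.zpowers x with hMdef
  haveI : Fintype M := Fintype.ofFinite _
  have hMelt : ∀ m ∈ M, ∃ n ∈ N, ∃ j : ℤ, m = n * x ^ j := fun m hm => by
    obtain ⟨n, hn, z, hz, hnz⟩ := CfsgLib.Coprime.exists_mul_of_mem_sup
      (show Subgroup.zpowers x ≤ Subgroup.normalizer (N : Set Γ) by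
        rw [Subgroup.normalizer_eq_top]; exact le_top) hm
    obtain ⟨j, rfl⟩ := Subgroup.mem_zpowers_iff.1 hz
    exact ⟨n, hn, j, hnz.symm⟩
  have hMG : ∀ m ∈ M, m ∈ G → m ∈ N := fun m hm hmG => by
    obtain ⟨n, hn, j, rfl⟩ := hMelt m hm
    refine N.mul_mem hn (hpow j ?_)
    simpa using G.mul_mem (G.inv_mem (hNG hn)) hmG
  set NM := N.subgroupOf M with hNM
  haveI : Fintype NM := Fintype.ofFinite _
  haveI : Fintype (M ⧸ NM) := Fintype.ofFinite _
  have hker : ((QuotientGroup.mk' G).comp M.subtype).ker = NM := by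
    ext m
    rw [MonoidHom.mem_ker, MonoidHom.comp_apply, QuotientGroup.mk'_apply, QuotientGroup.eq_one_iff]
    exact ⟨hMG m m.2, fun h => hNG h⟩
  have hsurj : Function.Surjective ((QuotientGroup.mk' G).comp M.subtype) := fun y => by
    obtain ⟨j, hj⟩ := Subgroup.mem_zpowers_iff.1 (hxb y)
    exact ⟨⟨x ^ j, (le_sup_right : Subgroup.zpowers x ≤ M) (Subgroup.zpow_mem_zpowers x j)⟩, by simpa using hj⟩
  let eQ : M ⧸ NM ≃* Γ ⧸ G := (QuotientGroup.quotientMulEquivOfEq hker.symm).trans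
    (QuotientGroup.quotientKerEquivOfSurjective _ hsurj)
  have hcardQ : Fintype.card (M ⧸ NM) = q := by
    rw [← Nat.card_eq_fintype_card, Nat.card_congr eQ.toEquiv, ← Subgroup.index_eq_card]
  have hcycM : IsCyclic (M ⧸ NM) := eQ.isCyclic.2 hcyc
  let eM : NM ≃* N := Subgroup.subgroupOfEquivOfLe le_sup_left
  set θM : IrrCharacter NM := Glauberman.irrCongr eM θ with hθM
  obtain ⟨φ, hφ, hφN⟩ := ExtensionCriteria.extends_of_cyclic NM θM.2
    (fun g n => hinv g (eM n)) hcycM
  have hφres : (fun n : NM => φ n) = (θM : NM → ℂ) := funext hφN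
  have hθres : Cfsg.IsIrrCharacter NM fun n : NM => φ n := hφres ▸ θM.2
  set F : M → ℂ := fun m => χh m with hF
  have hFc : Cfsg.IsCharacter M F := isCharacter_restrict M (isCharacter_of_isIrr hχh)
  have hFN : (fun n : NM => F n) = (e : ℂ) • (θM : NM → ℂ) := funext fun n => hχhN (eM n)
  choose a ha using fun β : IrrCharacter (M ⧸ NM) =>
    classInner_character_irr hFc (Gallagher.isIrr_prodInfl NM hφ hθres β.2)
  have hab : ∀ a b : M ⧸ NM, a * b = b * a := fun a b => by
    letI := hcycM.commGroup; exact mul_comm a b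
  have hexp : F = ∑ β : IrrCharacter (M ⧸ NM),
      (a β : ℂ) • Gallagher.prodInfl NM φ (β : M ⧸ NM → ℂ) := by
    let j : IrrCharacter (M ⧸ NM) → IrrCharacter M := fun β =>
      ⟨_, Gallagher.isIrr_prodInfl NM hφ hθres β.2⟩
    have hj : Function.Injective j := fun β γ h => Subtype.ext
      (Gallagher.prodInfl_injective NM hφ hθres β.2 γ.2 (congrArg Subtype.val h))
    conv_lhs => rw [character_expansion hFc]
    rw [← Finset.sum_subset (Finset.subset_univ (Finset.univ.image j))]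
    · rw [Finset.sum_image (fun β _ γ _ h => hj h)]
      exact Finset.sum_congr rfl fun β _ => by rw [ha]
    · intro ψ _ hψ
      by_cases h0 : Cfsg.classInner F (ψ : M → ℂ) = 0
      · rw [h0, zero_smul]
      · exfalso
        obtain ⟨η, hη⟩ : ∃ η : IrrCharacter NM,
            Cfsg.classInner (fun n : NM => (ψ : M → ℂ) n) (η : NM → ℂ) ≠ 0 := by
          by_contra h
          push Not at h
          refine irr_one_ne_zero ψ.2 ?_
          have := congrFun
            (character_expansion (isCharacter_restrict NM (isCharacter_of_isIrr ψ.2))) 1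
          simpa [Finset.sum_apply, h] using this
        have hη' : η = θM := by
          by_contra hne
          refine Glauberman.classInner_ne_zero_trans NM.subtype hFc ψ η h0 hη ?_
          show Cfsg.classInner (fun n : NM => F n) (η : NM → ℂ) = 0
          rw [hFN, classInner_smul_left,
            classInner_isIrr_ne θM.2 η.2 (fun h => hne (Subtype.ext h).symm), mul_zero]
        obtain ⟨β, hβ, hψβ⟩ := Gallagher.exists_eq_prodInfl NM hφ hθres ψ.2
          (by rw [hφres, ← hη']; exact hη)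
        exact hψ (Finset.mem_image.2 ⟨⟨β, hβ⟩, Finset.mem_univ _, Subtype.ext hψβ.symm⟩)
  have hsum : ∑ β, a β = e := by
    have h1 := congrFun hexp 1
    have h2 : F 1 = (e : ℂ) * φ 1 := by
      have := congrFun hFN 1
      rw [← hφres] at this
      simpa using this
    simp only [Finset.sum_apply, Pi.smul_apply, smul_eq_mul, Gallagher.prodInfl,
      QuotientGroup.mk_one, irr_degree_one_of_comm hab, mul_one, ← Finset.sum_mul] at h1
    rw [h2] at h1
    exact_mod_cast (mul_right_cancel₀ (irr_one_ne_zero hφ) h1).symm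
  -- the norm
  have hnorm : ∀ y : Γ, y ∉ G →
      ∑ n : N, χh ((n : Γ) * y) * conj (χh ((n : Γ) * y)) = (Nat.card N : ℂ) := by
    intro y hy
    have h1 := sum_coset_eq G N hNG y (hfrob y hy) (fun g => χh g * conj (χh g)) (fun a b => by
      show χh (a * b * a⁻¹) * conj (χh (a * b * a⁻¹)) = χh b * conj (χh b)
      rw [isClassFunction_of_isIrr hχh b a])
    have hres' : Cfsg.IsIrrCharacter G fun g : G => χh g := by
      rw [show (fun g : G => χh g) = (χ : G → ℂ) from funext hext]; exact χ.2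
    rw [Gallagher.sum_coset_mul_conj G hχh hres'] at h1
    have hi0 : (i : ℂ) ≠ 0 := Nat.cast_ne_zero.2 Subgroup.index_ne_zero_of_finite
    refine mul_left_cancel₀ hi0 (h1.symm.trans ?_)
    rw [← Nat.card_congr eN.toEquiv, ← Nat.cast_mul, hi, Subgroup.index_mul_card]
  have hsq : q * ∑ β, a β * a β + 1 = e * e + q := by
    let Ψ : (M ⧸ NM) × N → M := fun p =>
      ⟨(p.2 : Γ) * (p.1.out : M), M.mul_mem (le_sup_left (a := N) p.2.2) p.1.out.2⟩
    have hΨ : Function.Bijective Ψ := by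
      refine (Fintype.bijective_iff_injective_and_card Ψ).2 ⟨?_, ?_⟩
      · rintro ⟨c, n⟩ ⟨c', n'⟩ h
        have h1 : (n : Γ) * (c.out : M) = (n' : Γ) * (c'.out : M) := congrArg Subtype.val h
        have hc : c = c' := by
          rw [← QuotientGroup.out_eq' c, ← QuotientGroup.out_eq' c', QuotientGroup.eq]
          show ((c.out : M) : Γ)⁻¹ * ((c'.out : M) : Γ) ∈ N
          have e2 : ((c'.out : M) : Γ) = (n' : Γ)⁻¹ * n * (c.out : M) := by
            rw [mul_assoc, h1]; group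
          rw [e2, ← mul_assoc]
          simpa using hN.conj_mem _ (N.mul_mem (N.inv_mem n'.2) n.2) ((c.out : M) : Γ)⁻¹
        subst hc
        rw [Subtype.ext (mul_right_cancel h1)]
      · rw [Fintype.card_prod, ← Nat.card_eq_fintype_card, ← Nat.card_eq_fintype_card,
          ← Nat.card_eq_fintype_card, Nat.card_congr eM.toEquiv.symm,
          ← Subgroup.card_eq_card_quotient_mul_card_subgroup]
    have hinner : Cfsg.classInner F F = ((∑ β, a β * a β : ℕ) : ℂ) := by
      nth_rewrite 1 [hexp]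
      rw [classInner_sum_left]
      push_cast
      refine Finset.sum_congr rfl fun β _ => ?_
      rw [classInner_smul_left, classInner_conj_symm, ha, Complex.conj_natCast]
    have hslice : ∀ c : M ⧸ NM, ∑ n : N, F (Ψ (c, n)) * conj (F (Ψ (c, n))) =
        if c = 1 then (Nat.card N : ℂ) * (e * e) else (Nat.card N : ℂ) := by
      intro c
      split_ifs with hc
      · subst hc
        have hout : ((((1 : M ⧸ NM)).out : M) : Γ) ∈ N :=
          (QuotientGroup.eq_one_iff (N := NM) _).1 (QuotientGroup.out_eq' _)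
        have hθsum : ∑ n : N, (θ : N → ℂ) n * conj ((θ : N → ℂ) n) = (Nat.card N : ℂ) := by
          have := classInner_isIrr_self θ.2
          rw [Cfsg.classInner, inv_mul_eq_one₀ natCard_ne_zero] at this
          exact this.symm
        calc ∑ n : N, F (Ψ (1, n)) * conj (F (Ψ (1, n)))
            = ∑ n : N, ((e : ℂ) * (θ : N → ℂ) n) * conj ((e : ℂ) * (θ : N → ℂ) n) := by
              refine Fintype.sum_equiv (Equiv.mulRight ⟨_, hout⟩) _ _ fun n => ?_
              rw [← hχhN]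
              rfl
          _ = (Nat.card N : ℂ) * (e * e) := by
              rw [← hθsum, Finset.sum_mul]
              exact Finset.sum_congr rfl fun n _ => by rw [map_mul, Complex.conj_natCast]; ring
      · refine hnorm ((c.out : M) : Γ) fun h => hc ?_
        rw [← QuotientGroup.out_eq' c, QuotientGroup.eq_one_iff]
        exact hMG _ c.out.2 h
    have hsumF : ∑ m : M, F m * conj (F m) =
        (Nat.card N : ℂ) * ((e : ℂ) * e + ((q : ℂ) - 1)) := by
      rw [← hΨ.sum_comp (fun m => F m * conj (F m)), Fintype.sum_prod_type]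
      simp only [hslice]
      rw [← Finset.add_sum_erase _ _ (Finset.mem_univ (1 : M ⧸ NM)), if_pos rfl,
        Finset.sum_congr rfl (fun c hc => if_neg (Finset.ne_of_mem_erase hc)), Finset.sum_const,
        Finset.card_erase_of_mem (Finset.mem_univ _), Finset.card_univ, hcardQ, nsmul_eq_mul,
        Nat.cast_sub hq1.le, Nat.cast_one]
      ring
    have hcardM : Nat.card M = q * Nat.card N := by
      rw [Subgroup.card_eq_card_quotient_mul_card_subgroup NM, Nat.card_eq_fintype_card (α := M ⧸ NM),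
        hcardQ, Nat.card_congr eM.toEquiv]
    rw [Cfsg.classInner, hsumF, hcardM, Nat.cast_mul] at hinner
    have hqC : (q : ℂ) ≠ 0 := Nat.cast_ne_zero.2 (by omega)
    field_simp [subgroup_card_ne_zero N] at hinner
    refine Nat.cast_injective (R := ℂ) ?_
    push_cast
    push_cast at hinner
    linear_combination -hinner
  exact dvd_sub_or_add a hq1 (by
    letI := hcycM.commGroup
    rw [← Nat.card_eq_fintype_card, card_irrCharacter, Nat.card_congr ConjClasses.mkEquiv.symm,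
      Nat.card_eq_fintype_card, hcardQ]) hsum hsq

end CfsgLib.FullyRamified
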